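import Cfsg.Agent.Lib.Helper19.SW.BP
import Cfsg.Agent.Lib.helper15.SWA4
import Cfsg.Agent.Lib.Helper9.SWA7
import Cfsg.Agent.Lib.Helper10.SWB5

/-! # SW piece B7 : `Pout ∧ ¬ Pin` is impossible (directed triangles) -/

set_option autoImplicit false

namespace Cfsg.Agent.Lib.Helper19.SW

variable {G : Type*} [Group G] {Ω : Type*} [MulAction G Ω] {R : Ω → Ω → Prop} {a b : Ω}

section B7

theorem b7_cEl_mem_OZ_left (S : SimsSetting G R a b) (hC : Nat.card (Cp G R a) = 2) {u w : Ω}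
    (h : R u w) : cEl G R u ∈ OZ (Ts G u w) :=
  (mem_OZ_iff_S S hC h _).mpr (Or.inr (Or.inl rfl))

theorem b7_cEl_mem_OZ_right (S : SimsSetting G R a b) (hC : Nat.card (Cp G R a) = 2) {u w : Ω}
    (h : R u w) : cEl G R w ∈ OZ (Ts G u w) :=
  (mem_OZ_iff_S S hC h _).mpr (Or.inr (Or.inr (Or.inl rfl)))

theorem b7_cEl_comm (S : SimsSetting G R a b) (hC : Nat.card (Cp G R a) = 2) {u w : Ω}
    (h : R u w) : cEl G R u * cEl G R w = cEl G R w * cEl G R u := by
  have h1 := b7_cEl_mem_OZ_right S hC h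
  have h2 : cEl G R w ∈ MulAction.stabilizer G u := by
    have := (mem_OZ.mp h1).1
    exact (Subgroup.mem_inf.mp this).1
  exact (comm_cEl_of_mem_Gs S hC h2).symm

theorem b7_mul_self (S : SimsSetting G R a b) (hC : Nat.card (Cp G R a) = 2) (u : Ω) :
    cEl G R u * cEl G R u = 1 := by
  have := cEl_sq S hC u
  rwa [pow_two] at this

/-- `c_{w'} = c_u c_w` for the successor arc `w → w'` of `u → w`. -/
theorem succ_cEl (S : SimsSetting G R a b) (hC : Nat.card (Cp G R a) = 2) (ho : Pout G R)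
    (hi : ¬ Pin G R) {u w w' : Ω} (h : R u w) (h' : R w w') (hT : Ts G w w' = Ts G u w) :
    cEl G R w' = cEl G R u * cEl G R w := by
  have h1 : rp G R w u = Cp G R u := ho u w h
  have h2 : rp G R w w' = rp G R w u := by
    unfold rp
    rw [hT, Ts_comm]
  have h3 := rp_of_not_pin S hC hi h'
  have h4 : cEl G R u ∈ rp G R w w' := by
    rw [h2, h1]; exact cEl_mem S hC u
  rcases (h3 _).mp h4 with h5 | h5
  · exact absurd h5 (cEl_ne_one S hC u)
  · -- c_u = c_w c_w'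
    have h6 : cEl G R w * cEl G R u = cEl G R w' := by
      rw [h5, ← mul_assoc, b7_mul_self S hC w, one_mul]
    rw [← h6, b7_cEl_comm S hC h]

/-- no arc is reversible. -/
theorem not_symm_of_out_only (S : SimsSetting G R a b) (hC : Nat.card (Cp G R a) = 2)
    (ho : Pout G R) (hi : ¬ Pin G R) {u w : Ω} (h : R u w) : ¬ R w u := by
  intro h'
  have := succ_cEl S hC ho hi h h' (Ts_comm w u)
  have h2 : cEl G R w = 1 := by
    have h3 : cEl G R u * cEl G R w = cEl G R u * 1 := by rw [mul_one]; exact this.symm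
    exact mul_left_cancel h3
  exact cEl_ne_one S hC w h2

/-- for `b ≥ 2`, the `Z`'s of adjacent points lie in each other's `Q`. -/
theorem below_two_S (S : SimsSetting G R a b) {p : ℕ → SVtx Ω} {n : ℕ}
    (hc : IsCritical G (AdjS R) p n) (hn : 2 ≤ n) {u w : Ω} (h : R u w) :
    Zp G R u ≤ Qo G R w ∧ Zp G R w ≤ Qo G R u := by
  have hB := hc.2.1
  constructor
  · have := hB (fun i => if i = 0 then (⟨u, true⟩ : SVtx Ω) else ⟨w, false⟩) 1 (by omega)
      (by
        intro i hi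
        have : i = 0 := by omega
        subst this
        simpa using bp_adj_out (R := R) h)
    simpa [Zs_S S, Qs_S S] using this
  · have := hB (fun i => if i = 0 then (⟨w, false⟩ : SVtx Ω) else ⟨u, true⟩) 1 (by omega)
      (by
        intro i hi
        have : i = 0 := by omega
        subst this
        simpa using bp_adj_in (R := R) h)
    simpa [Zs_S S, Qs_S S] using this

theorem b7_Zp_map (S : SimsSetting G R a b) (g : G) (u : Ω) :
    (Zp G R u).map (MulAut.conj g).toMonoidHom = Zp G R (g • u) := by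
  ext x
  constructor
  · rintro ⟨y, hy, rfl⟩
    simp only [MulEquiv.coe_toMonoidHom, MulAut.conj_apply]
    exact (bp_Zp_smul S g u y).mpr hy
  · intro hx
    refine ⟨g⁻¹ * x * g, ?_, ?_⟩
    · have : g * (g⁻¹ * x * g) * g⁻¹ = x := by group
      rw [← this] at hx
      exact (bp_Zp_smul S g u _).mp hx
    · simp only [MulEquiv.coe_toMonoidHom, MulAut.conj_apply]
      group

/-- Asym at every `+` vertex: `Z_y Z_z` does not depend on `z ∈ N⁺(y)`. -/
theorem asym_all (S : SimsSetting G R a b) (hC : Nat.card (Cp G R a) = 2) (ho : Pout G R)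
    (hi : ¬ Pin G R) {p : ℕ → SVtx Ω} {n : ℕ} (hc : IsCritical G (AdjS R) p n) (hn : 2 ≤ n)
    (y z z' : Ω) (hz : R y z) (hz' : R y z') :
    Zp G R y ⊔ Zp G R z = Zp G R y ⊔ Zp G R z' := by
  have hout : (p 0).out = true := by
    by_contra hne
    have hf : (p 0).out = false := by simpa using hne
    exact hi (pin_of_crit S hc hn hf).2
  have hasym : ∀ w w', AdjS R (p 0) w → AdjS R (p 0) w' →
      Zs G (AdjS R) (p 0) ⊔ Zs G (AdjS R) w = Zs G (AdjS R) (p 0) ⊔ Zs G (AdjS R) w' := by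
    rcases crit_dich (ls3 S) (quad_S S) hc hn with ⟨w, hw, _, hcw⟩ | h
    · exfalso
      have hwout : w.out = false := by
        rcases hw with ⟨_, h2, _⟩ | ⟨h1, _, _⟩
        · exact h2
        · rw [hout] at h1; exact absurd h1 (by simp)
      have h0 : (consWalk w p) 0 = w := by simp [consWalk]
      exact hi (pin_of_crit S hcw hn (by rw [h0]; exact hwout)).2
    · exact h
  obtain ⟨g, hg⟩ := pt_trans S (p 0).pt y
  have hz0 : R (p 0).pt (g⁻¹ • z) := by
    have := (R_smul_iff S g (p 0).pt (g⁻¹ • z)).mp (by rw [hg, smul_inv_smul]; exact hz)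
    exact this
  have hz0' : R (p 0).pt (g⁻¹ • z') := by
    have := (R_smul_iff S g (p 0).pt (g⁻¹ • z')).mp (by rw [hg, smul_inv_smul]; exact hz')
    exact this
  have hp0 : p 0 = ⟨(p 0).pt, true⟩ := by
    cases hh : p 0 with
    | mk pt out =>
      rw [hh] at hout
      simp only at hout
      subst hout
      rfl
  have hA : AdjS R (p 0) ⟨g⁻¹ • z, false⟩ := by rw [hp0]; exact bp_adj_out hz0
  have hA' : AdjS R (p 0) ⟨g⁻¹ • z', false⟩ := by rw [hp0]; exact bp_adj_out hz0'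
  have key := hasym _ _ hA hA'
  rw [Zs_S S, Zs_S S, Zs_S S] at key
  simp only at key
  have key2 := congrArg (Subgroup.map (MulAut.conj g).toMonoidHom) key
  rw [Subgroup.map_sup, Subgroup.map_sup, b7_Zp_map S, b7_Zp_map S, b7_Zp_map S, hg,
    smul_inv_smul, smul_inv_smul] at key2
  exact key2

theorem b7_eq_of_Gs_le (S : SimsSetting G R a b) {u w : Ω}
    (h : MulAction.stabilizer G u ≤ MulAction.stabilizer G w) : u = w := by
  by_contra hne
  have htop := Gs_sup_eq_top S hne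
  rw [sup_eq_right.mpr h] at htop
  obtain ⟨g, hg⟩ := pt_trans S w u
  have : g ∈ MulAction.stabilizer G w := by rw [htop]; exact Subgroup.mem_top g
  rw [MulAction.mem_stabilizer_iff] at this
  exact hne (by rw [← hg, this])

/-- the combinatorial contradiction. -/
theorem no_out_pair (S : SimsSetting G R a b) (hasym : ∀ u w : Ω, R u w → ¬ R w u)
    (hP : ∀ y : Ω, ∃ v v' : Ω, v ≠ v' ∧ ∀ z x, R y z → R z x → Ts G z x = Ts G y z →
      (x ≠ v ∧ x ≠ v' ∧ ∀ x', R z x' ↔ (x' = x ∨ x' = v ∨ x' = v'))) : False := by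
  have hyz₁ : R a b := R_base S
  obtain ⟨z₂, hz₂, hne⟩ : ∃ z₂, z₂ ∈ {w | R a w} ∧ z₂ ≠ b :=
    Set.exists_ne_of_one_lt_ncard (by rw [out3_all S a]; norm_num) b
  have hz₂ : R a z₂ := hz₂
  obtain ⟨x₁, hx₁, hT₁⟩ := succ_exists S hyz₁
  obtain ⟨x₂, hx₂, hT₂⟩ := succ_exists S hz₂
  obtain ⟨v, v', hvv', hPy⟩ := hP a
  obtain ⟨n1, n1', N1⟩ := hPy b x₁ hyz₁ hx₁ hT₁
  obtain ⟨_, _, N2⟩ := hPy z₂ x₂ hz₂ hx₂ hT₂
  have hz₁v : R b v := (N1 v).mpr (Or.inr (Or.inl rfl))
  have hz₁v' : R b v' := (N1 v').mpr (Or.inr (Or.inr rfl))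
  obtain ⟨u, hu, hTu⟩ := pred_exists S hz₁v
  obtain ⟨vu, vu', _, hPu⟩ := hP u
  obtain ⟨m1, m1', M1⟩ := hPu b v hu hz₁v hTu.symm
  have hx₁' : x₁ = vu ∨ x₁ = vu' := by
    rcases (M1 x₁).mp hx₁ with h | h | h
    · exact absurd h n1
    · exact Or.inl h
    · exact Or.inr h
  have hv'' : v' = vu ∨ v' = vu' := by
    rcases (M1 v').mp hz₁v' with h | h | h
    · exact absurd h.symm hvv'
    · exact Or.inl h
    · exact Or.inr h
  have hU : ∀ z, R u z → R z v' ∧ R z x₁ := by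
    intro z hz
    obtain ⟨xz, hxz, hTz⟩ := succ_exists S hz
    obtain ⟨_, _, Nz⟩ := hPu z xz hz hxz hTz
    have a1 : R z vu := (Nz vu).mpr (Or.inr (Or.inl rfl))
    have a2 : R z vu' := (Nz vu').mpr (Or.inr (Or.inr rfl))
    constructor
    · rcases hv'' with h | h <;> rw [h] <;> assumption
    · rcases hx₁' with h | h <;> rw [h] <;> assumption
  have hY : ∀ z, R a z → R z v' := by
    intro z hz
    obtain ⟨xz, hxz, hTz⟩ := succ_exists S hz
    exact ((hPy z xz hz hxz hTz).2.2 v').mpr (Or.inr (Or.inr rfl))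
  have hfin : {z | R z v'}.Finite :=
    Set.finite_of_ncard_ne_zero (by rw [in3_all S v']; norm_num)
  have e1 : {z | R a z} = {z | R z v'} :=
    Set.eq_of_subset_of_ncard_le (fun z hz => hY z hz)
      (by rw [out3_all S a, in3_all S v']) hfin
  have e2 : {z | R u z} = {z | R z v'} :=
    Set.eq_of_subset_of_ncard_le (fun z hz => (hU z hz).1)
      (by rw [out3_all S u, in3_all S v']) hfin
  have hz₂u : R u z₂ := by
    have h1 : z₂ ∈ {z | R z v'} := by rw [← e1]; exact hz₂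
    rw [← e2] at h1
    exact h1
  have hz₂x₁ : R z₂ x₁ := (hU z₂ hz₂u).2
  rcases (N2 x₁).mp hz₂x₁ with h | h | h
  · subst h
    have hle : MulAction.stabilizer G a ≤ MulAction.stabilizer G x₁ := by
      refine (bp_Gs_le_sup_out S hyz₁ hz₂ hne.symm).trans (sup_le ?_ ?_)
      · rw [← hT₁]; exact inf_le_right
      · rw [← hT₂]; exact inf_le_right
    have hax : a = x₁ := b7_eq_of_Gs_le S hle
    rw [← hax] at hx₁
    exact hasym a b hyz₁ hx₁
  · exact n1 h
  · exact n1' h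

theorem bp_relIndex_Ts (S : SimsSetting G R a b) {u w : Ω} (h : R u w) :
    (Ts G u w).relIndex (MulAction.stabilizer G u) = 3 := by
  have := relIndex_Ts_Gs (ls3 S) (bp_adj_out (R := R) h)
  rwa [Ts_S, SVtx.stabilizer_eq] at this

theorem bp_eq_of_le_relIndex {H K L : Subgroup G} (hHK : H ≤ K) (hKL : K ≤ L)
    (h1 : H.relIndex L = 3) (h2 : K.relIndex L = 3) : H = K := by
  have h := Subgroup.relIndex_mul_relIndex H K L hHK hKL
  rw [h1, h2] at h
  have h3 : H.relIndex K = 1 := by omega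
  exact le_antisymm hHK (Subgroup.relIndex_eq_one.mp h3)

/-! ### the structure of `Z_z` under `Pout ∧ ¬ Pin` -/

theorem b7_cEl_mem_Zp_in (S : SimsSetting G R a b) (hC : Nat.card (Cp G R a) = 2) {u z : Ω}
    (h : R u z) : cEl G R u ∈ Zp G R z := by
  have := b7_cEl_mem_OZ_left S hC h
  rw [bp_OZ_eq_inf S h] at this
  exact this.2

theorem b7_cEl_mem_Zp_out (S : SimsSetting G R a b) (hC : Nat.card (Cp G R a) = 2) {z x : Ω}
    (h : R z x) : cEl G R x ∈ Zp G R z := by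
  have := b7_cEl_mem_OZ_right S hC h
  rw [bp_OZ_eq_inf S h] at this
  exact this.1

theorem b7_cEl_mem_Zp_self (S : SimsSetting G R a b) (hC : Nat.card (Cp G R a) = 2) (z : Ω) :
    cEl G R z ∈ Zp G R z := (cEl_mem S hC z).1

/-- the three in-neighbours of a point: their `c`'s multiply to `1`. -/
theorem b7_in_prod (S : SimsSetting G R a b) (hC : Nat.card (Cp G R a) = 2) (ho : Pout G R)
    {z u₁ u₂ u₃ : Ω} (h₁ : R u₁ z) (h₂ : R u₂ z) (h₃ : R u₃ z) (n12 : u₁ ≠ u₂) (n13 : u₁ ≠ u₃)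
    (n23 : u₂ ≠ u₃) : cEl G R u₁ * cEl G R u₂ * cEl G R u₃ = 1 := by
  have m12 : (⟨u₁, true⟩ : SVtx Ω) ≠ ⟨u₂, true⟩ := fun hh => n12 (congrArg SVtx.pt hh)
  have m13 : (⟨u₁, true⟩ : SVtx Ω) ≠ ⟨u₃, true⟩ := fun hh => n13 (congrArg SVtx.pt hh)
  have m23 : (⟨u₂, true⟩ : SVtx Ω) ≠ ⟨u₃, true⟩ := fun hh => n23 (congrArg SVtx.pt hh)
  have mem : ∀ u, R u z → cEl G R u ∈ rs G (AdjS R) (⟨z, false⟩ : SVtx Ω) ⟨u, true⟩ := by
    intro u hu
    rw [rs_S S]
    show cEl G R u ∈ rp G R z u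
    rw [ho u z hu]
    exact cEl_mem S hC u
  exact rs_prod (ls3 S) (quad_S S _) (bp_adj_in (R := R) h₁) (bp_adj_in (R := R) h₂)
    (bp_adj_in (R := R) h₃) m12 m13 m23 (mem u₁ h₁) (mem u₂ h₂) (mem u₃ h₃)
    (cEl_ne_one S hC u₁) (cEl_ne_one S hC u₂) (cEl_ne_one S hC u₃)

/-- `c_u ∉ Ω₁Z(T_yz)` for an in-neighbour `u ≠ y` of `z`. -/
theorem b7_cEl_not_mem_OZ (S : SimsSetting G R a b) (hC : Nat.card (Cp G R a) = 2) (ho : Pout G R)
    (hi : ¬ Pin G R) {y z u : Ω} (hyz : R y z) (huz : R u z) (hne : u ≠ y) :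
    cEl G R u ∉ OZ (Ts G y z) := by
  intro hmem
  rcases (mem_OZ_iff_S S hC hyz _).mp hmem with h | h | h | h
  · exact cEl_ne_one S hC u h
  · exact hne (cEl_injective S hC h)
  · have := cEl_injective S hC h
    rw [this] at huz
    exact R_irrefl S z huz
  · obtain ⟨x, hx, hT⟩ := succ_exists S hyz
    have hcx := succ_cEl S hC ho hi hyz hx hT
    have : u = x := cEl_injective S hC (by rw [h, hcx])
    rw [this] at huz
    exact not_symm_of_out_only S hC ho hi hx huz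

/-- the same for an out-neighbour `z' ≠ z` of `y`: `c_{z'} ∉ Ω₁Z(T_yz)`. -/
theorem b7_cEl_out_not_mem_OZ (S : SimsSetting G R a b) (hC : Nat.card (Cp G R a) = 2)
    (ho : Pout G R) (hi : ¬ Pin G R) {y z z' : Ω} (hyz : R y z) (hyz' : R y z') (hne : z' ≠ z) :
    cEl G R z' ∉ OZ (Ts G y z) := by
  intro hmem
  rcases (mem_OZ_iff_S S hC hyz _).mp hmem with h | h | h | h
  · exact cEl_ne_one S hC z' h
  · have := cEl_injective S hC h
    rw [this] at hyz'
    exact R_irrefl S y hyz'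
  · exact hne (cEl_injective S hC h)
  · obtain ⟨x, hx, hT⟩ := succ_exists S hyz
    have hcx := succ_cEl S hC ho hi hyz hx hT
    have hzx : z' = x := cEl_injective S hC (by rw [h, hcx])
    -- then T_yz = T_zx ≤ G_{z'}, so T_yz = T_yz' and z = z'
    have hle : Ts G y z ≤ Ts G y z' := by
      intro g hg
      refine Subgroup.mem_inf.mpr ⟨(Subgroup.mem_inf.mp hg).1, ?_⟩
      have : g ∈ Ts G z x := by rw [hT]; exact hg
      rw [hzx]
      exact (Subgroup.mem_inf.mp this).2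
    have hidx1 := bp_relIndex_Ts S hyz
    have hidx2 := bp_relIndex_Ts S hyz'
    exact hne (Ts_out_injective S hyz hyz' (bp_eq_of_le_relIndex hle inf_le_left hidx1 hidx2)).symm

/-- three given distinct elements of a set of size three exhaust it. -/
theorem b7_three {α : Type*} {s : Set α} (h : s.ncard = 3) {x y z : α} (hx : x ∈ s) (hy : y ∈ s)
    (hz : z ∈ s) (hxy : x ≠ y) (hxz : x ≠ z) (hyz : y ≠ z) : ∀ t ∈ s, t = x ∨ t = y ∨ t = z := by
  have hfin : s.Finite := Set.finite_of_ncard_ne_zero (by rw [h]; norm_num)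
  have hsub : ({x, y, z} : Set α) ⊆ s := by
    intro t ht
    simp only [Set.mem_insert_iff, Set.mem_singleton_iff] at ht
    rcases ht with rfl | rfl | rfl <;> assumption
  have h3 : ({x, y, z} : Set α).ncard = 3 := Set.ncard_eq_three.mpr ⟨x, y, z, hxy, hxz, hyz, rfl⟩
  have := Set.eq_of_subset_of_ncard_le hsub (by rw [h, h3]) hfin
  intro t ht
  rw [← this] at ht
  simpa using ht

theorem b7_exists_third {α : Type*} {s : Set α} (h : s.ncard = 3) {x y : α} (hx : x ∈ s)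
    (hy : y ∈ s) (hxy : x ≠ y) : ∃ z ∈ s, z ≠ x ∧ z ≠ y := by
  by_contra hcon
  push Not at hcon
  have hsub : s ⊆ ({x, y} : Set α) := by
    intro t ht
    by_cases htx : t = x
    · simp [htx]
    · simp [hcon t ht htx]
  have hle := Set.ncard_le_ncard hsub (Set.toFinite _)
  have h2 : ({x, y} : Set α).ncard ≤ 2 := by
    rw [Set.ncard_pair hxy]
  omega

/-- elementwise product decomposition of `H ⊔ K` for elementwise commuting subgroups. -/
theorem b7_mem_sup_comm {H K : Subgroup G} (hc : ∀ h ∈ H, ∀ k ∈ K, h * k = k * h) {x : G}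
    (hx : x ∈ H ⊔ K) : ∃ h ∈ H, ∃ k ∈ K, x = h * k := by
  let M : Subgroup G :=
    { carrier := {x | ∃ h ∈ H, ∃ k ∈ K, x = h * k}
      one_mem' := ⟨1, H.one_mem, 1, K.one_mem, by simp⟩
      mul_mem' := by
        rintro _ _ ⟨h₁, hh₁, k₁, hk₁, rfl⟩ ⟨h₂, hh₂, k₂, hk₂, rfl⟩
        refine ⟨h₁ * h₂, H.mul_mem hh₁ hh₂, k₁ * k₂, K.mul_mem hk₁ hk₂, ?_⟩
        calc h₁ * k₁ * (h₂ * k₂) = h₁ * (k₁ * h₂) * k₂ := by group
          _ = h₁ * (h₂ * k₁) * k₂ := by rw [hc h₂ hh₂ k₁ hk₁]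
          _ = h₁ * h₂ * (k₁ * k₂) := by group
      inv_mem' := by
        rintro _ ⟨h, hh, k, hk, rfl⟩
        refine ⟨h⁻¹, H.inv_mem hh, k⁻¹, K.inv_mem hk, ?_⟩
        rw [mul_inv_rev, hc h⁻¹ (H.inv_mem hh) k⁻¹ (K.inv_mem hk)] }
  have hle : H ⊔ K ≤ M := by
    refine sup_le ?_ ?_
    · intro h hh; exact ⟨h, hh, 1, K.one_mem, by simp⟩
    · intro k hk; exact ⟨1, H.one_mem, k, hk, by simp⟩
  exact hle hx

/-- an element common to the three `Z_z`, `z ∈ N⁺(y)`, outside `Z_y`. -/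
theorem b7_exists_e (S : SimsSetting G R a b) (hC : Nat.card (Cp G R a) = 2) (ho : Pout G R)
    (hi : ¬ Pin G R)
    (hB : ∀ u w : Ω, R u w → Zp G R u ≤ Qo G R w ∧ Zp G R w ≤ Qo G R u)
    (hN : ∀ y z z' : Ω, R y z → R y z' → Zp G R y ⊔ Zp G R z = Zp G R y ⊔ Zp G R z')
    {y z₁ z₂ z₃ : Ω} (h₁ : R y z₁) (h₂ : R y z₂) (h₃ : R y z₃) (n12 : z₁ ≠ z₂) (n13 : z₁ ≠ z₃)
    (n23 : z₂ ≠ z₃) :
    ∃ e, e ∈ Zp G R z₁ ∧ e ∈ Zp G R z₂ ∧ e ∈ Zp G R z₃ ∧ e ∉ Zp G R y := by
  obtain ⟨p, hp, hpy⟩ : ∃ p, p ∈ {u | R u z₂} ∧ p ≠ y :=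
    Set.exists_ne_of_one_lt_ncard (by rw [in3_all S z₂]; norm_num) y
  have hp : R p z₂ := hp
  have hcp2 : cEl G R p ∈ Zp G R z₂ := b7_cEl_mem_Zp_in S hC hp
  have hcpV : cEl G R p ∈ Zp G R y ⊔ Zp G R z₁ := by
    rw [hN y z₁ z₂ h₁ h₂]
    exact (le_sup_right : Zp G R z₂ ≤ _) hcp2
  have hcomm : ∀ h ∈ Zp G R y, ∀ k ∈ Zp G R z₁, h * k = k * h := by
    intro h hh k hk
    exact bp_Qo_comm_Zp S ((hB y z₁ h₁).1 hh) hk
  obtain ⟨h, hh, k, hk, hcp⟩ := b7_mem_sup_comm hcomm hcpV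
  have hOZ1 : OZ (Ts G y z₁) = Zp G R y ⊓ Zp G R z₁ := bp_OZ_eq_inf S h₁
  have hOZ2 : OZ (Ts G y z₂) = Zp G R y ⊓ Zp G R z₂ := bp_OZ_eq_inf S h₂
  -- decompose h = k₁ * k₂
  obtain ⟨k₁, hk₁, k₂, hk₂, hdec⟩ : ∃ k₁ ∈ OZ (Ts G y z₁), ∃ k₂ ∈ OZ (Ts G y z₂), h = k₁ * k₂ := by
    by_cases hh1 : h ∈ OZ (Ts G y z₁)
    · exact ⟨h, hh1, 1, Subgroup.one_mem _, by simp⟩
    · have hd2 : cEl G R z₂ ∈ OZ (Ts G y z₂) := b7_cEl_mem_OZ_right S hC h₂
      have hd1 : cEl G R z₂ ∉ OZ (Ts G y z₁) := b7_cEl_out_not_mem_OZ S hC ho hi h₁ h₂ n12.symm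
      have hdy : cEl G R z₂ ∈ Zp G R y := by rw [hOZ2] at hd2; exact hd2.1
      have hprod := bp_mul_mem_of_relIndex_two (bp_relIndex_out S h₁) hh hdy hh1 hd1
      refine ⟨h * cEl G R z₂, hprod, cEl G R z₂, hd2, ?_⟩
      rw [mul_assoc, b7_mul_self S hC z₂, mul_one]
  have hk₁y : k₁ ∈ Zp G R y := by rw [hOZ1] at hk₁; exact hk₁.1
  have hk₁z : k₁ ∈ Zp G R z₁ := by rw [hOZ1] at hk₁; exact hk₁.2
  have hk₂y : k₂ ∈ Zp G R y := by rw [hOZ2] at hk₂; exact hk₂.1
  have hk₂z : k₂ ∈ Zp G R z₂ := by rw [hOZ2] at hk₂; exact hk₂.2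
  have hcpe : cEl G R p = k₂ * (k₁ * k) := by
    rw [hcp, hdec, bp_Zp_comm S hk₁y hk₂y]
    group
  have he1 : k₁ * k ∈ Zp G R z₁ := Subgroup.mul_mem _ hk₁z hk
  have he2 : k₁ * k ∈ Zp G R z₂ := by
    have : k₁ * k = k₂⁻¹ * cEl G R p := by rw [hcpe]; group
    rw [this]
    exact Subgroup.mul_mem _ (Subgroup.inv_mem _ hk₂z) hcp2
  have hey : k₁ * k ∉ Zp G R y := by
    intro hey
    have : cEl G R p ∈ Zp G R y := by rw [hcpe]; exact Subgroup.mul_mem _ hk₂y hey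
    have hmem : cEl G R p ∈ OZ (Ts G y z₂) := by rw [hOZ2]; exact ⟨this, hcp2⟩
    exact b7_cEl_not_mem_OZ S hC ho hi h₂ hp hpy hmem
  refine ⟨k₁ * k, he1, he2, ?_, hey⟩
  -- the q-trick
  obtain ⟨q, hq, hqQ⟩ := SetLike.not_le_iff_exists.mp (bp_Qo_not_le S h₁)
  have hqT : q ∈ Ts G y z₁ := bp_Qo_le_Ts_in S h₁ hq
  have hsw := (bp_swap_out S h₁ h₂ h₃ n12.symm n13.symm n23 hqT hqQ).1
  have hconj : q * (k₁ * k) * q⁻¹ ∈ Zp G R (q • z₂) := (bp_Zp_smul S q z₂ _).mpr he2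
  rw [hsw] at hconj
  have hqe : q * (k₁ * k) = (k₁ * k) * q := bp_Qo_comm_Zp S hq he1
  rw [hqe, mul_assoc, mul_inv_cancel, mul_one] at hconj
  exact hconj

theorem b7_inv_cEl (S : SimsSetting G R a b) (hC : Nat.card (Cp G R a) = 2) (u : Ω) :
    (cEl G R u)⁻¹ = cEl G R u := by
  have := b7_mul_self S hC u
  exact inv_eq_of_mul_eq_one_left this

section X

variable (S : SimsSetting G R a b) (hC : Nat.card (Cp G R a) = 2) (ho : Pout G R) (hi : ¬ Pin G R)
  {y : Ω} {e : G} (he : ∀ z, R y z → e ∈ Zp G R z) (hey : e ∉ Zp G R y)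
include S hC ho hi he hey

/-- elements of `X = ⋂_{z ∈ N⁺(y)} Z_z`. -/
theorem b7_X_cases {x : G} (hx : ∀ z, R y z → x ∈ Zp G R z) :
    x = 1 ∨ x = cEl G R y ∨ x = e ∨ x = e * cEl G R y := by
  obtain ⟨z, hz⟩ : ∃ z, R y z := by
    have : {w | R y w}.Nonempty := by
      rw [← Set.ncard_pos (Set.finite_of_ncard_ne_zero (by rw [out3_all S y]; norm_num)),
        out3_all S y]
      norm_num
    exact this
  obtain ⟨z', hz', hne⟩ : ∃ z', z' ∈ {w | R y w} ∧ z' ≠ z :=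
    Set.exists_ne_of_one_lt_ncard (by rw [out3_all S y]; norm_num) z
  have hz' : R y z' := hz'
  have hOZ : OZ (Ts G y z) = Zp G R y ⊓ Zp G R z := bp_OZ_eq_inf S hz
  have hOZ' : OZ (Ts G y z') = Zp G R y ⊓ Zp G R z' := bp_OZ_eq_inf S hz'
  have hCp := bp_Cp_eq_inf_out S hz hz' hne.symm
  by_cases hxy : x ∈ Zp G R y
  · have : x ∈ Cp G R y := by
      rw [hCp, hOZ, hOZ']
      exact ⟨⟨hxy, hx z hz⟩, ⟨hxy, hx z' hz'⟩⟩
    rcases (mem_Cp_iff S hC y x).mp this with h | h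
    · exact Or.inl h
    · exact Or.inr (Or.inl h)
  · have hxO : x ∉ OZ (Ts G y z) := fun h => hxy (by rw [hOZ] at h; exact h.1)
    have hxO' : x ∉ OZ (Ts G y z') := fun h => hxy (by rw [hOZ'] at h; exact h.1)
    have heO : e ∉ OZ (Ts G y z) := fun h => hey (by rw [hOZ] at h; exact h.1)
    have heO' : e ∉ OZ (Ts G y z') := fun h => hey (by rw [hOZ'] at h; exact h.1)
    have h1 := bp_mul_mem_of_relIndex_two (bp_relIndex_in S hz) (hx z hz) (he z hz) hxO heO
    have h2 := bp_mul_mem_of_relIndex_two (bp_relIndex_in S hz') (hx z' hz') (he z' hz') hxO' heO'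
    have : x * e ∈ Cp G R y := by rw [hCp]; exact ⟨h1, h2⟩
    have he2 : e * e = 1 := by
      have := bp_Zp_sq S (he z hz); rwa [pow_two] at this
    rcases (mem_Cp_iff S hC y _).mp this with h | h
    · refine Or.inr (Or.inr (Or.inl ?_))
      calc x = x * (e * e) := by rw [he2, mul_one]
        _ = (x * e) * e := by group
        _ = e := by rw [h, one_mul]
    · refine Or.inr (Or.inr (Or.inr ?_))
      have hcy : cEl G R y ∈ Zp G R z := b7_cEl_mem_Zp_in S hC hz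
      calc x = x * (e * e) := by rw [he2, mul_one]
        _ = (x * e) * e := by group
        _ = cEl G R y * e := by rw [h]
        _ = e * cEl G R y := bp_Zp_comm S hcy (he z hz)

/-- `e` is not the `c` of an in-neighbour of some `z ∈ N⁺(y)`. -/
theorem b7_not_in {z w : Ω} (hz : R y z) (hw : R w z) (hwy : w ≠ y) : e ≠ cEl G R w := by
  intro hew
  -- the third in-neighbour
  obtain ⟨w', hw', hw'y, hw'w⟩ := b7_exists_third (in3_all S z) (x := y) (y := w) hz hw hwy.symm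
  have hw' : R w' z := hw'
  have hnb : ∀ u, R u z → u = y ∨ u = w ∨ u = w' :=
    b7_three (in3_all S z) (x := y) (y := w) (z := w') hz hw hw' hwy.symm hw'y.symm hw'w.symm
  have hprod := b7_in_prod S hC ho hz hw hw' hwy.symm hw'y.symm hw'w.symm
  -- c w' = c w * c y
  have hcw' : cEl G R w' = cEl G R w * cEl G R y := by
    have h1 : cEl G R w' = (cEl G R y * cEl G R w)⁻¹ := eq_inv_of_mul_eq_one_right hprod
    rw [h1, mul_inv_rev, b7_inv_cEl S hC, b7_inv_cEl S hC]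
  -- the subgroup X
  let X : Subgroup G := ⨅ z' ∈ {z' | R y z'}, Zp G R z'
  have hXmem : ∀ x, x ∈ X ↔ ∀ z', R y z' → x ∈ Zp G R z' := by
    intro x
    simp only [X, Subgroup.mem_iInf, Set.mem_setOf_eq]
  have hcyX : cEl G R y ∈ X := (hXmem _).mpr fun z' hz' => b7_cEl_mem_Zp_in S hC hz'
  have heX : e ∈ X := (hXmem _).mpr he
  have hXle : X ≤ Ts G y z := by
    intro x hx
    exact bp_Qo_le_Ts_in S hz (bp_Zp_le_Qo S z ((hXmem x).mp hx z hz))
  have hXy : ∀ g ∈ MulAction.stabilizer G y, ∀ x ∈ X, g * x * g⁻¹ ∈ X := by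
    intro g hg x hx
    rw [hXmem]
    intro z' hz'
    have hgy : g • y = y := MulAction.mem_stabilizer_iff.mp hg
    have h1 : R y (g⁻¹ • z') := by
      have := (R_smul_iff S g y (g⁻¹ • z')).mp (by rw [hgy, smul_inv_smul]; exact hz')
      exact this
    have h2 := (bp_Zp_smul S g (g⁻¹ • z') x).mpr ((hXmem x).mp hx _ h1)
    rwa [smul_inv_smul] at h2
  have hcin : ∀ u, R u z → cEl G R u ∈ X := by
    intro u hu
    rcases hnb u hu with rfl | rfl | rfl
    · exact hcyX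
    · rw [← hew]; exact heX
    · rw [hcw', ← hew]; exact X.mul_mem heX hcyX
  have hXz : ∀ g ∈ MulAction.stabilizer G z, ∀ x ∈ X, g * x * g⁻¹ ∈ X := by
    intro g hg x hx
    have hgz : g • z = z := MulAction.mem_stabilizer_iff.mp hg
    have hconj : ∀ u, R u z → g * cEl G R u * g⁻¹ ∈ X := by
      intro u hu
      rw [← cEl_smul S hC g u]
      apply hcin
      have := (R_smul_iff S g u z).mpr hu
      rwa [hgz] at this
    rcases b7_X_cases S hC ho hi he hey ((hXmem x).mp hx) with h | h | h | h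
    · rw [h]; simp
    · rw [h]; exact hconj y hz
    · rw [h, hew]; exact hconj w hw
    · rw [h, hew]
      have : g * (cEl G R w * cEl G R y) * g⁻¹ =
          (g * cEl G R w * g⁻¹) * (g * cEl G R y * g⁻¹) := by group
      rw [this]
      exact X.mul_mem (hconj w hw) (hconj y hz)
  have hbot := bp_corefree S hz X hXle hXy hXz
  rw [hbot, Subgroup.mem_bot] at hcyX
  exact cEl_ne_one S hC y hcyX

/-- the two non-successor out-neighbours of `z ∈ N⁺(y)` are the points with `c = e`, `c = e c_y`. -/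
theorem b7_key {z : Ω} (hz : R y z) :
    ∃ v v' : Ω, R z v ∧ R z v' ∧ cEl G R v = e ∧ cEl G R v' = e * cEl G R y := by
  obtain ⟨u, hu, huy⟩ : ∃ u, u ∈ {u | R u z} ∧ u ≠ y :=
    Set.exists_ne_of_one_lt_ncard (by rw [in3_all S z]; norm_num) y
  have hu : R u z := hu
  obtain ⟨u', hu', hu'y, hu'u⟩ := b7_exists_third (in3_all S z) (x := y) (y := u) hz hu huy.symm
  have hu' : R u' z := hu'
  have hprod := b7_in_prod S hC ho hz hu hu' huy.symm hu'y.symm hu'u.symm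
  have hcu' : cEl G R u' = cEl G R u * cEl G R y := by
    have h1 : cEl G R u' = (cEl G R y * cEl G R u)⁻¹ := eq_inv_of_mul_eq_one_right hprod
    rw [h1, mul_inv_rev, b7_inv_cEl S hC, b7_inv_cEl S hC]
  have hOZ : OZ (Ts G y z) = Zp G R y ⊓ Zp G R z := bp_OZ_eq_inf S hz
  have heO : e ∉ OZ (Ts G y z) := fun h => hey (by rw [hOZ] at h; exact h.1)
  have huO : cEl G R u ∉ OZ (Ts G y z) := b7_cEl_not_mem_OZ S hC ho hi hz hu huy
  have hcuz : cEl G R u ∈ Zp G R z := b7_cEl_mem_Zp_in S hC hu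
  have hmem := bp_mul_mem_of_relIndex_two (bp_relIndex_in S hz) hcuz (he z hz) huO heO
  obtain ⟨v, hv, hTv⟩ := succ_exists S hu
  obtain ⟨v', hv', hTv'⟩ := succ_exists S hu'
  have hcv : cEl G R v = cEl G R u * cEl G R z := succ_cEl S hC ho hi hu hv hTv
  have hcv' : cEl G R v' = cEl G R u' * cEl G R z := succ_cEl S hC ho hi hu' hv' hTv'
  have hcyz : cEl G R y * cEl G R z = cEl G R z * cEl G R y := b7_cEl_comm S hC hz
  have hcuz' : cEl G R u * cEl G R z = cEl G R z * cEl G R u := b7_cEl_comm S hC hu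
  have hcuy : cEl G R u * cEl G R y = cEl G R y * cEl G R u :=
    bp_Zp_comm S hcuz (b7_cEl_mem_Zp_in S hC hz)
  have huu : cEl G R u * cEl G R u = 1 := b7_mul_self S hC u
  have hyy : cEl G R y * cEl G R y = 1 := b7_mul_self S hC y
  -- e = c_u * (c_u * e)
  have hee : ∀ t, cEl G R u * e = t → e = cEl G R u * t := by
    intro t ht
    rw [← ht, ← mul_assoc, huu, one_mul]
  rcases (mem_OZ_iff_S S hC hz _).mp hmem with h | h | h | h
  · exact absurd (by rw [hee _ h, mul_one]) (b7_not_in S hC ho hi he hey hz hu huy)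
  · exact absurd (by rw [hee _ h, hcu']) (b7_not_in S hC ho hi he hey hz hu' hu'y)
  · refine ⟨v, v', hv, hv', by rw [hcv, hee _ h], ?_⟩
    rw [hcv', hcu', hee _ h]
    calc cEl G R u * cEl G R y * cEl G R z = cEl G R u * (cEl G R y * cEl G R z) := by group
      _ = cEl G R u * (cEl G R z * cEl G R y) := by rw [hcyz]
      _ = cEl G R u * cEl G R z * cEl G R y := by group
  · refine ⟨v', v, hv', hv, ?_, ?_⟩
    · rw [hcv', hcu', hee _ h]
      group
    · rw [hcv, hee _ h]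
      calc cEl G R u * cEl G R z = cEl G R u * cEl G R z * (cEl G R y * cEl G R y) := by
            rw [hyy, mul_one]
        _ = cEl G R u * (cEl G R z * cEl G R y) * cEl G R y := by group
        _ = cEl G R u * (cEl G R y * cEl G R z) * cEl G R y := by rw [hcyz]

end X

/-- the out-neighbours of `z ∈ N⁺(y)` other than the successor are the same two points for all `z`. -/
theorem out_pair (S : SimsSetting G R a b) (hC : Nat.card (Cp G R a) = 2) (ho : Pout G R)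
    (hi : ¬ Pin G R)
    (hB : ∀ u w : Ω, R u w → Zp G R u ≤ Qo G R w ∧ Zp G R w ≤ Qo G R u)
    (hN : ∀ y z z' : Ω, R y z → R y z' → Zp G R y ⊔ Zp G R z = Zp G R y ⊔ Zp G R z')
    (y : Ω) : ∃ v v' : Ω, v ≠ v' ∧ ∀ z x, R y z → R z x → Ts G z x = Ts G y z →
      (x ≠ v ∧ x ≠ v' ∧ ∀ x', R z x' ↔ (x' = x ∨ x' = v ∨ x' = v')) := by
  obtain ⟨z₁, z₂, z₃, n12, n13, n23, hset⟩ := Set.ncard_eq_three.mp (out3_all S y)
  have hout : ∀ z, R y z ↔ (z = z₁ ∨ z = z₂ ∨ z = z₃) := by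
    intro z
    have : z ∈ {w | R y w} ↔ z ∈ ({z₁, z₂, z₃} : Set Ω) := by rw [hset]
    simpa using this
  have h₁ : R y z₁ := (hout z₁).mpr (Or.inl rfl)
  have h₂ : R y z₂ := (hout z₂).mpr (Or.inr (Or.inl rfl))
  have h₃ : R y z₃ := (hout z₃).mpr (Or.inr (Or.inr rfl))
  obtain ⟨e, he1, he2, he3, hey⟩ := b7_exists_e S hC ho hi hB hN h₁ h₂ h₃ n12 n13 n23
  have he : ∀ z, R y z → e ∈ Zp G R z := by
    intro z hz
    rcases (hout z).mp hz with rfl | rfl | rfl <;> assumption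
  obtain ⟨v, v', _, _, hcv, hcv'⟩ := b7_key S hC ho hi he hey h₁
  have hvv' : v ≠ v' := by
    intro h
    rw [h, hcv'] at hcv
    have : cEl G R y = 1 := by
      have h1 : e * cEl G R y = e * 1 := by rw [mul_one]; exact hcv
      exact mul_left_cancel h1
    exact cEl_ne_one S hC y this
  refine ⟨v, v', hvv', ?_⟩
  intro z x hz hx hT
  obtain ⟨w, w', hw, hw', hcw, hcw'⟩ := b7_key S hC ho hi he hey hz
  have hwv : w = v := cEl_injective S hC (by rw [hcw, hcv])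
  have hwv' : w' = v' := cEl_injective S hC (by rw [hcw', hcv'])
  rw [hwv] at hw
  rw [hwv'] at hw'
  have hcx : cEl G R x = cEl G R y * cEl G R z := succ_cEl S hC ho hi hz hx hT
  have hcxy : cEl G R x ∈ Zp G R y := by
    rw [hcx]
    exact Subgroup.mul_mem _ (b7_cEl_mem_Zp_self S hC y) (b7_cEl_mem_Zp_out S hC hz)
  have hxv : x ≠ v := by
    intro h
    rw [h, hcv] at hcxy
    exact hey hcxy
  have hxv' : x ≠ v' := by
    intro h
    rw [h, hcv'] at hcxy
    have : e ∈ Zp G R y := by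
      have h1 := Subgroup.mul_mem _ hcxy (b7_cEl_mem_Zp_self S hC y)
      rwa [mul_assoc, b7_mul_self S hC y, mul_one] at h1
    exact hey this
  refine ⟨hxv, hxv', fun x' => ⟨fun hx' => ?_, ?_⟩⟩
  · exact b7_three (out3_all S z) (x := x) (y := v) (z := v') hx hw hw' hxv hxv' hvv' x' hx'
  · rintro (rfl | rfl | rfl) <;> assumption

theorem no_out_only (S : SimsSetting G R a b) (hC : Nat.card (Cp G R a) = 2) (ho : Pout G R)
    (hi : ¬ Pin G R) {p : ℕ → SVtx Ω} {n : ℕ} (hc : IsCritical G (AdjS R) p n) (hn : 2 ≤ n) :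
    False := by
  have hB : ∀ u w : Ω, R u w → Zp G R u ≤ Qo G R w ∧ Zp G R w ≤ Qo G R u :=
    fun u w h => below_two_S S hc hn h
  have hN := asym_all S hC ho hi hc hn
  exact no_out_pair S (fun u w h => not_symm_of_out_only S hC ho hi h)
    (fun y => out_pair S hC ho hi hB hN y)

end B7

end Cfsg.Agent.Lib.Helper19.SW
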