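import Cfsg.Agent.Lib.Helper27.SWA2
import Cfsg.Agent.Lib.helper15.SWA4
import Cfsg.Agent.Lib.Helper20.SWA11
import Cfsg.Agent.Lib.Helper9.SWB1
import Cfsg.Agent.Lib.Helper1.SWB2
import Cfsg.Agent.Lib.Helper1.SWB3
import Cfsg.Agent.Lib.Helper10.SWB5
import Cfsg.Agent.Lib.Helper10.SWB6
import Cfsg.Agent.Lib.Helper19.SW.B7

set_option autoImplicit false

namespace Cfsg.Agent.Lib.Helper19.SW

variable {G : Type*} [Group G] {Ω : Type*} [MulAction G Ω] {R : Ω → Ω → Prop} {a b : Ω}

/-! ## Piece B8 : assembly of the Sims layer -/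
section B8

theorem b_eq_one (S : SimsSetting G R a b) : ∃ p : ℕ → SVtx Ω, IsCritical G (AdjS R) p 1 := by
  obtain ⟨p, n, hc⟩ := exists_critical (ls3 S) (⟨a, true⟩ : SVtx Ω)
  have h1 : 1 ≤ n := crit_pos (ls3 S) hc
  rcases Nat.lt_or_ge n 2 with hlt | hn
  · have : n = 1 := by omega
    subst this
    exact ⟨p, hc⟩
  exfalso
  cases ho : (p 0).out with
  | true =>
    obtain ⟨hC, hout⟩ := pout_of_crit S hc hn ho
    by_cases hin : Pin G R
    · exact no_both S hC hout hin hc hn
    · exact no_out_only S hC hout hin hc hn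
  | false =>
    obtain ⟨hC, hin⟩ := pin_of_crit S hc hn ho
    by_cases hout : Pout G R
    · exact no_both S hC hout hin hc hn
    · have S' := setting_flip S
      have hc' := isCritical_flip S hc
      have hC' : Nat.card (Cp G (flip R) b) = 2 := by
        rw [Cp_flip S, card_Cp_eq S b a]; exact hC
      have hout' : Pout G (flip R) := (pout_flip S).mpr hin
      have hin' : ¬ Pin G (flip R) := fun h => hout ((pin_flip S).mp h)
      exact no_out_only S' hC' hout' hin' hc' hn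

theorem sims_main (S : SimsSetting G R a b) :
    Nonempty (MulAction.stabilizer G a ≃* Equiv.Perm (Fin 4)) ∨
    Nonempty (MulAction.stabilizer G a ≃* Equiv.Perm (Fin 4) × Multiplicative (ZMod 2)) := by
  obtain ⟨p, hc⟩ := b_eq_one S
  obtain ⟨g, hg⟩ := pt_trans S a (p 0).pt
  have e1 : MulAction.stabilizer G a ≃* MulAction.stabilizer G (p 0).pt :=
    MulAction.stabilizerEquivStabilizer hg.symm
  have e2 : MulAction.stabilizer G (p 0).pt ≃* MulAction.stabilizer G (p 0) :=
    MulEquiv.subgroupCongr (SVtx.stabilizer_eq (p 0)).symm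
  rcases b_one_iso (ls3 S) hc with ⟨⟨e⟩⟩ | ⟨⟨e⟩⟩
  · exact Or.inl ⟨(e1.trans e2).trans e⟩
  · exact Or.inr ⟨(e1.trans e2).trans e⟩

end B8

end Cfsg.Agent.Lib.Helper19.SW
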