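import Cfsg.Agent.Lib.Helper25.SWA1
import Cfsg.Agent.Lib.Helper27.SWA2
import Cfsg.Agent.Lib.helper15.SWA3
import Cfsg.Agent.Lib.Helper24.SWA5
import Cfsg.Agent.Lib.Helper9.SWB1
import Cfsg.Agent.Lib.Helper1.SWB2
import Cfsg.Agent.Lib.Helper1.SWB3
import Cfsg.Agent.Lib.Helper25.SWB4

/-! # SW : point-level translations of the abstract layer (used by B6, B7) -/

set_option autoImplicit false

namespace Cfsg.Agent.Lib.Helper19.SW

variable {G : Type*} [Group G] {Ω : Type*} [MulAction G Ω] {R : Ω → Ω → Prop} {a b : Ω}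

theorem bp_adj_out {u w : Ω} (h : R u w) : AdjS R (⟨u, true⟩ : SVtx Ω) ⟨w, false⟩ :=
  Or.inl ⟨rfl, rfl, h⟩

theorem bp_adj_in {u w : Ω} (h : R u w) : AdjS R (⟨w, false⟩ : SVtx Ω) ⟨u, true⟩ :=
  Or.inr ⟨rfl, rfl, h⟩

theorem bp_Zp_comm (S : SimsSetting G R a b) {u : Ω} {x y : G} (hx : x ∈ Zp G R u)
    (hy : y ∈ Zp G R u) : x * y = y * x := by
  have hx' : x ∈ Zs G (AdjS R) ⟨u, true⟩ := by rw [Zs_S S]; exact hx
  have hy' : y ∈ Zs G (AdjS R) ⟨u, true⟩ := by rw [Zs_S S]; exact hy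
  exact Zs_comm (ls3 S) hx' hy'

theorem bp_Zp_sq (S : SimsSetting G R a b) {u : Ω} {x : G} (hx : x ∈ Zp G R u) : x ^ 2 = 1 := by
  have hx' : x ∈ Zs G (AdjS R) ⟨u, true⟩ := by rw [Zs_S S]; exact hx
  exact Zs_sq (ls3 S) hx'

theorem bp_Zp_le_Qo (S : SimsSetting G R a b) (u : Ω) : Zp G R u ≤ Qo G R u := by
  have := Zs_le_Qs (ls3 S) (⟨u, true⟩ : SVtx Ω)
  rwa [Zs_S S, Qs_S S] at this

theorem bp_Qo_comm_Zp (S : SimsSetting G R a b) {u : Ω} {q z : G} (hq : q ∈ Qo G R u)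
    (hz : z ∈ Zp G R u) : q * z = z * q := by
  have hq' : q ∈ Qs G (AdjS R) ⟨u, true⟩ := by rw [Qs_S S]; exact hq
  have hz' : z ∈ Zs G (AdjS R) ⟨u, true⟩ := by rw [Zs_S S]; exact hz
  exact Qs_comm_Zs (ls3 S) hq' hz'

theorem bp_Qo_le_Ts_out (S : SimsSetting G R a b) {u w : Ω} (h : R u w) :
    Qo G R u ≤ Ts G u w := by
  have := Qs_le_Ts (G := G) (Adj := AdjS R) (⟨u, true⟩ : SVtx Ω) ⟨w, false⟩ (bp_adj_out h)
  rwa [Qs_S S, Ts_S] at this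

theorem bp_Qo_le_Ts_in (S : SimsSetting G R a b) {u w : Ω} (h : R u w) :
    Qo G R w ≤ Ts G u w := by
  have := Qs_le_Ts (G := G) (Adj := AdjS R) (⟨w, false⟩ : SVtx Ω) ⟨u, true⟩ (bp_adj_in h)
  rw [Qs_S S, Ts_S] at this
  rw [Ts_comm]
  exact this

theorem bp_OZ_eq_inf (S : SimsSetting G R a b) {u w : Ω} (h : R u w) :
    OZ (Ts G u w) = Zp G R u ⊓ Zp G R w := by
  have := OZ_eq_inf (ls3 S) (bp_adj_out (R := R) h)
  rwa [Ts_S, Zs_S S, Zs_S S] at this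

theorem bp_relIndex_out (S : SimsSetting G R a b) {u w : Ω} (h : R u w) :
    (OZ (Ts G u w)).relIndex (Zp G R u) = 2 := by
  have := quad_all (ls3 S) (quad_S S _) (bp_adj_out (R := R) h)
  rwa [Ts_S, Zs_S S] at this

theorem bp_relIndex_in (S : SimsSetting G R a b) {u w : Ω} (h : R u w) :
    (OZ (Ts G u w)).relIndex (Zp G R w) = 2 := by
  have := quad_all (ls3 S) (quad_S S _) (bp_adj_in (R := R) h)
  rw [Ts_S, Zs_S S] at this
  rw [Ts_comm]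
  exact this

/-- index 2: the product of two elements of `K` outside `H` lies in `H`. -/
theorem bp_mul_mem_of_relIndex_two {H K : Subgroup G} (h2 : H.relIndex K = 2) {x y : G}
    (hx : x ∈ K) (hy : y ∈ K) (hxH : x ∉ H) (hyH : y ∉ H) : x * y ∈ H := by
  have h := Subgroup.mul_mem_iff_of_index_two (H := H.subgroupOf K) h2
    (a := ⟨x, hx⟩) (b := ⟨y, hy⟩)
  simp only [Subgroup.mem_subgroupOf] at h
  exact h.mpr ⟨fun hh => absurd hh hxH, fun hh => absurd hh hyH⟩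

theorem bp_Cp_eq_inf_out (S : SimsSetting G R a b) {u w w' : Ω} (h : R u w) (h' : R u w')
    (hne : w ≠ w') : Cp G R u = OZ (Ts G u w) ⊓ OZ (Ts G u w') := by
  have hne' : (⟨w, false⟩ : SVtx Ω) ≠ ⟨w', false⟩ := by
    intro hh; exact hne (congrArg SVtx.pt hh)
  have := Cs_eq_inf (ls3 S) (quad_S S _) (bp_adj_out (R := R) h) (bp_adj_out (R := R) h') hne'
  rwa [Cs_S S, Ts_S, Ts_S] at this

theorem bp_Cp_eq_inf_in (S : SimsSetting G R a b) {u u' w : Ω} (h : R u w) (h' : R u' w)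
    (hne : u ≠ u') : Cp G R w = OZ (Ts G u w) ⊓ OZ (Ts G u' w) := by
  have hne' : (⟨u, true⟩ : SVtx Ω) ≠ ⟨u', true⟩ := by
    intro hh; exact hne (congrArg SVtx.pt hh)
  have := Cs_eq_inf (ls3 S) (quad_S S _) (bp_adj_in (R := R) h) (bp_adj_in (R := R) h') hne'
  rw [Cs_S S, Ts_S, Ts_S] at this
  rw [Ts_comm u w, Ts_comm u' w]
  exact this

theorem bp_Zp_smul (S : SimsSetting G R a b) (g : G) (u : Ω) (x : G) :
    g * x * g⁻¹ ∈ Zp G R (g • u) ↔ x ∈ Zp G R u := by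
  have := conj_mem_Zs (ls3 S) g (⟨u, true⟩ : SVtx Ω) x
  rwa [Zs_S S, Zs_S S] at this

theorem bp_Zp_normal (S : SimsSetting G R a b) {u : Ω} {g x : G}
    (hg : g ∈ MulAction.stabilizer G u) (hx : x ∈ Zp G R u) : g * x * g⁻¹ ∈ Zp G R u := by
  have := (bp_Zp_smul S g u x).mpr hx
  rwa [MulAction.mem_stabilizer_iff.mp hg] at this

theorem bp_Gs_le_sup_out (S : SimsSetting G R a b) {u w w' : Ω} (h : R u w) (h' : R u w')
    (hne : w ≠ w') : MulAction.stabilizer G u ≤ Ts G u w ⊔ Ts G u w' := by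
  have hne' : (⟨w, false⟩ : SVtx Ω) ≠ ⟨w', false⟩ := by
    intro hh; exact hne (congrArg SVtx.pt hh)
  have := Gs_le_sup (ls3 S) (bp_adj_out (R := R) h) (bp_adj_out (R := R) h') hne'
  rwa [SVtx.stabilizer_eq, Ts_S, Ts_S] at this

theorem bp_corefree (S : SimsSetting G R a b) {u w : Ω} (h : R u w) (X : Subgroup G)
    (hX : X ≤ Ts G u w)
    (hu : ∀ g ∈ MulAction.stabilizer G u, ∀ x ∈ X, g * x * g⁻¹ ∈ X)
    (hw : ∀ g ∈ MulAction.stabilizer G w, ∀ x ∈ X, g * x * g⁻¹ ∈ X) : X = ⊥ := by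
  refine (ls3 S).corefree (⟨u, true⟩ : SVtx Ω) ⟨w, false⟩ (bp_adj_out h) X ?_ ?_ ?_
  · rw [Ts_S]; exact hX
  · intro g hg; rw [SVtx.stabilizer_eq] at hg; exact hu g hg
  · intro g hg; rw [SVtx.stabilizer_eq] at hg; exact hw g hg

/-- an element of `Q_w \ Q_u` (`u → w`) swaps the two other out-neighbours of `u`. -/
theorem bp_swap_out (S : SimsSetting G R a b) {u w w' w'' : Ω} (h : R u w) (h' : R u w')
    (h'' : R u w'') (h1 : w' ≠ w) (h2 : w'' ≠ w) (h3 : w' ≠ w'') {t : G} (ht : t ∈ Ts G u w)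
    (htQ : t ∉ Qo G R u) : t • w' = w'' ∧ t • w'' = w' := by
  have n1 : (⟨w', false⟩ : SVtx Ω) ≠ ⟨w, false⟩ := fun hh => h1 (congrArg SVtx.pt hh)
  have n2 : (⟨w'', false⟩ : SVtx Ω) ≠ ⟨w, false⟩ := fun hh => h2 (congrArg SVtx.pt hh)
  have n3 : (⟨w', false⟩ : SVtx Ω) ≠ ⟨w'', false⟩ := fun hh => h3 (congrArg SVtx.pt hh)
  have ht' : t ∈ Ts G (⟨u, true⟩ : SVtx Ω) ⟨w, false⟩ := by rw [Ts_S]; exact ht
  have htQ' : t ∉ Qs G (AdjS R) (⟨u, true⟩ : SVtx Ω) := by rw [Qs_S S]; exact htQ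
  obtain ⟨e1, e2⟩ := swap_of_not_mem_Qs (ls3 S) (bp_adj_out (R := R) h) (bp_adj_out (R := R) h')
    (bp_adj_out (R := R) h'') n1 n2 n3 ht' htQ'
  exact ⟨congrArg SVtx.pt e1, congrArg SVtx.pt e2⟩

theorem bp_Qo_not_le (S : SimsSetting G R a b) {u w : Ω} (h : R u w) :
    ¬ Qo G R w ≤ Qo G R u := by
  have := Qs_not_le (ls3 S) (bp_adj_out (R := R) h)
  rwa [Qs_S S, Qs_S S] at this

end Cfsg.Agent.Lib.Helper19.SW
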